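import Groth.Agent.Lib.AlgSpDescent.AffineFpqc
import Groth.Agent.Lib.AlgSpace.QCQS
import Groth.Agent.Lib.AlgSpace.SchemeLocus
import Groth.Agent.Lib.AlgSpace.LqfScheme
import Groth.Agent.Lib.LimH13.SubAlgLimit
import Groth.Agent.Lib.LimSys14.SchemeLimit
import Groth.Agent.Lib.LimSys14.Apps
import Groth.Agent.S10461
import Mathlib.RingTheory.Jacobson.Ring
import Mathlib.CategoryTheory.Limits.Connected

/-!
# Spreading representability along field extensions
-/

universe u

set_option backward.isDefEq.respectTransparency.types false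
set_option backward.isDefEq.respectTransparency false
set_option linter.unusedVariables false

open CategoryTheory CategoryTheory.Limits AlgebraicGeometry Opposite

namespace Groth.Agent.FieldSpread14

open AlgSp Groth.Agent.AlgSpace Groth.Agent.AlgSpDecent

noncomputable section

variable {S : Scheme.{u}}

/-- Descent of schemes along a radicial, integral, faithfully flat map of affine schemes. -/
theorem exists_iso_yon_of_radicial {P : Sp S} (hP : IsAlgSpace P) {Z V : Over S} [IsAffine Z.left]
    [IsAffine V.left] (π : P ⟶ (yon S).obj Z) (v : V ⟶ Z) [Flat v.left] [Surjective v.left]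
    [UniversallyInjective v.left] [IsIntegralHom v.left] {G : Over S} (q : (yon S).obj G ⟶ P) (p : G ⟶ V)
    (sq : IsPullback q ((yon S).map p) π ((yon S).map v)) : P.obj.IsRepresentable := by
  have hqc : RepWith @UniversallyClosed q :=
    repWith_of_isPullback sq.flip ((repWith_yon_map_iff _ _).2 inferInstance)
  have hqs : RepWith @Surjective q :=
    repWith_of_isPullback sq.flip ((repWith_yon_map_iff _ _).2 inferInstance)
  have hqi : RepWith @UniversallyInjective q :=
    repWith_of_isPullback sq.flip ((repWith_yon_map_iff _ _).2 inferInstance)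
  have near : ∀ y : ↥G.left, ∃ (A : Over S) (w : (yon S).obj A ⟶ P),
      RepWith @IsOpenImmersion w ∧ Points.ofPt q y ∈ Set.range (Points.map w) := by
    intro y
    obtain ⟨O, hO, hyO, -⟩ := exists_isAffineOpen_mem_and_subset (X := G.left) (x := y) (U := ⊤) trivial
    let W : Set (Points P) := (Points.ofPt q '' (O : Set ↥G.left)ᶜ)ᶜ
    have hW : IsOpen W := (Groth.Agent.S10461.isClosed_image hqc O.2.isClosed_compl).isOpen_compl
    have mem : ∀ z, Points.ofPt q z ∈ W ↔ z ∈ O := fun z =>
      ⟨fun h => not_not.1 fun hz => h ⟨z, hz, rfl⟩,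
        fun hz ⟨z', hz', e'⟩ => hz' (Groth.Agent.S10461.injective_ofPt hqi e' ▸ hz)⟩
    have hι := repWith_openSubι hW
    let o : Over.mk (O.ι ≫ G.hom) ⟶ G := Over.homMk O.ι rfl
    obtain ⟨j, hj⟩ := exists_factor_openSub (W := W) ((yon S).map o ≫ q) (by
      rintro _ ⟨x, rfl⟩
      obtain ⟨z, rfl⟩ := (Points.schemeEquiv _).surjective x
      show Points.map _ (Points.ofScheme _ z) ∈ W
      rw [← Points.ofPt_eq_map_ofScheme, ofPt_map_comp]
      exact (mem _).2 z.2)
    have : IsOpenImmersion o.left := inferInstanceAs (IsOpenImmersion O.ι)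
    have : Mono o := (Over.forget S).mono_of_mono_map (inferInstanceAs (Mono o.left))
    have sqA : IsPullback j ((yon S).map o) (openSubι W) q := by
      refine isPullback_of_mono_lifts hj fun T y x w => ?_
      obtain ⟨k₀, rfl⟩ := (yon S).map_surjective y
      have hk : Set.range k₀.left ⊆ Set.range o.left := by
        rintro _ ⟨z, rfl⟩
        show _ ∈ Set.range O.ι
        rw [Scheme.Opens.range_ι]
        refine (mem _).1 ?_
        rw [← ofPt_map_comp, ← w]
        exact ofPt_openSubι_mem x z
      refine ⟨(yon S).map (Over.homMk (IsOpenImmersion.lift o.left k₀.left hk) (by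
        rw [← Over.w o, IsOpenImmersion.lift_fac_assoc, Over.w k₀])), ?_⟩
      rw [← Functor.map_comp]
      congr 1
      exact Over.OverMorphism.ext (IsOpenImmersion.lift_fac _ _ _)
    have : IsAffine (Over.mk (O.ι ≫ G.hom)).left := hO
    have sqT : IsPullback j ((yon S).map (o ≫ p)) (openSubι W ≫ π) ((yon S).map v) := by
      rw [Functor.map_comp]
      exact sqA.paste_vert sq
    obtain ⟨A, i, φ, hA, hφ, -⟩ := AlgSpDescent.exists_iso_affine_of_fpqc
      (isAlgSpace_of_representable hι.1 hP) _ v _ _ sqT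
    refine ⟨A, inv φ ≫ openSubι W, (repWith_respectsIso_left (inv φ)).2 hι, ?_⟩
    rw [map_comp_eq, (bijective_map_iso (inv φ)).2.range_comp, range_openSubι]
    exact (mem y).2 hyO
  choose A w hw hmem using near
  obtain ⟨H, ⟨eH⟩⟩ := exists_iso_yon_of_points_cover (κ := ↥G.left) (U := A) (w := w) hw fun x => by
    obtain ⟨z, rfl⟩ := surjective_ofPt hqs x
    exact ⟨z, hmem z⟩
  exact isRepresentable_of_iso_yon eH

/-- Base change along a map of schemes preserves representability of products. -/
theorem exists_sq_of_rep {X : Sp S} {A B : Over S} (v : B ⟶ A)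
    (h : (X ⨯ (yon S).obj A).obj.IsRepresentable) :
    ∃ (H : Over S) (e : (yon S).obj H ≅ X ⨯ (yon S).obj B) (p : H ⟶ B),
      (yon S).map p = e.hom ≫ Limits.prod.snd := by
  obtain ⟨G, ⟨e⟩⟩ : ∃ G : Over S, Nonempty ((yon S).obj G ≅ X ⨯ (yon S).obj A) :=
    ⟨_, ⟨isoOfRepresentableBy (Functor.representableBy (F := (X ⨯ (yon S).obj A).obj))⟩⟩
  obtain ⟨a, ha⟩ := (yon S).map_surjective (e.hom ≫ Limits.prod.snd)
  have sq₁ := (IsPullback.of_hasPullback a v).map (yon S)
  rw [ha] at sq₁
  have sq₂ : IsPullback (prod.map (𝟙 X) ((yon S).map v) ≫ e.inv)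
      (prod.snd : X ⨯ (yon S).obj B ⟶ _) (e.hom ≫ Limits.prod.snd) ((yon S).map v) :=
    (isPullback_prod_map_right ((yon S).map v) X).flip.of_iso (Iso.refl _) e.symm (Iso.refl _) (Iso.refl _)
      (by simp) (by simp) (by simp) (by simp)
  exact ⟨pullback a v, sq₁.isoIsPullback _ _ sq₂, pullback.snd a v,
    (IsPullback.isoIsPullback_hom_snd _ _ sq₁ sq₂).symm⟩

theorem rep_of_rep {X : Sp S} {A B : Over S} (v : B ⟶ A)
    (h : (X ⨯ (yon S).obj A).obj.IsRepresentable) : (X ⨯ (yon S).obj B).obj.IsRepresentable := by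
  obtain ⟨H, e, -, -⟩ := exists_sq_of_rep v h
  exact isRepresentable_of_iso_yon e

section Field

variable (k : Type u) [Field k]

/-- The spectrum of an algebra over the base. -/
def spec (A : Type u) [CommRing A] [Algebra k A] : Over (Spec (CommRingCat.of k)) :=
  Over.mk (Spec.map (CommRingCat.ofHom (algebraMap k A)))

instance (A : Type u) [CommRing A] [Algebra k A] : IsAffine (spec k A).left :=
  inferInstanceAs (IsAffine (Spec (CommRingCat.of A)))

variable {k}

/-- The map of spectra of an algebra map. -/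
def specHom {A B : Type u} [CommRing A] [CommRing B] [Algebra k A] [Algebra k B] (φ : A →ₐ[k] B) :
    spec k B ⟶ spec k A :=
  Over.homMk (Spec.map (CommRingCat.ofHom φ.toRingHom)) (by
    show Spec.map _ ≫ Spec.map _ = Spec.map _
    rw [← Spec.map_comp, ← CommRingCat.ofHom_comp]
    congr 2
    exact φ.comp_algebraMap)

variable (k) (K : Type u) [Field K] [Algebra k K]

/-- Finitely generated subalgebras. -/
def Idx : Type u := {A : Subalgebra k K // A.FG}

instance : Preorder (Idx k K) := inferInstanceAs (Preorder (Subtype _))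
instance : Nonempty (Idx k K) := ⟨⟨⊥, Subalgebra.fg_bot⟩⟩
instance : IsDirected (Idx k K) (· ≤ ·) :=
  ⟨fun a b => ⟨⟨a.1 ⊔ b.1, a.2.sup b.2⟩, le_sup_left (a := a.1) (b := b.1), le_sup_right (a := a.1) (b := b.1)⟩⟩

/-- The rings of the system. -/
def ringSys : Idx k K ⥤ CommRingCat.{u} where
  obj i := CommRingCat.of i.1
  map {i j} a := CommRingCat.ofHom (Subalgebra.inclusion (a.le : i.1 ≤ j.1)).toRingHom
  map_id _ := rfl
  map_comp _ _ := rfl

/-- The ring as a cocone. -/
def ringCocone : Cocone (ringSys k K) where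
  pt := CommRingCat.of K
  ι := { app := fun i => CommRingCat.ofHom (algebraMap i.1 K), naturality := fun _ _ _ => rfl }

/-- The system of spectra. -/
def sys : (Idx k K)ᵒᵖ ⥤ Over (Spec (CommRingCat.of k)) where
  obj i := spec k i.unop.1
  map {i j} a := specHom (Subalgebra.inclusion (a.unop.le : j.unop.1 ≤ i.unop.1))
  map_id i := Over.OverMorphism.ext (Spec.map_id _)
  map_comp {i j l} a b := Over.OverMorphism.ext (by
    show Spec.map _ = Spec.map _ ≫ Spec.map _
    rw [← Spec.map_comp]
    rfl)

/-- The limit cone. -/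
def sysCone : Cone (sys k K) where
  pt := spec k K
  π := { app := fun i => specHom i.unop.1.val
         naturality := fun i j a => (Category.id_comp _).trans (Over.OverMorphism.ext (by
           show Spec.map _ = Spec.map _ ≫ Spec.map _
           rw [← Spec.map_comp]
           rfl)) }

theorem isLimit_sysCone : Nonempty (IsLimit (sysCone k K)) := by
  have : IsFiltered (Idx k K) := isFiltered_of_directed_le_nonempty _
  have : IsConnected (Idx k K)ᵒᵖ := IsCofiltered.isConnected _
  have hc : IsColimit (ringCocone k K) := LimH13.SubAlg.isColimitOfInjective _ (fun i => Subtype.val_injective)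
    fun x => by
      change K at x
      exact ⟨⟨Algebra.adjoin k {x}, ⟨{x}, by simp⟩⟩, ⟨x, Algebra.subset_adjoin rfl⟩, rfl⟩
  refine ⟨isLimitOfReflects (Over.forget _) ?_⟩
  exact IsLimit.ofIsoLimit (isLimitOfPreserves Scheme.Spec hc.op) (Cone.ext (Iso.refl _) (fun i => (Category.id_comp _).symm))

variable {K}

/-- A base change which is a scheme is one over some finite extension. -/
theorem exists_finite_rep (X : AlgSp.Space (Spec (CommRingCat.of k))) (hqc : IsQuasiCompactSp X.obj)
    (hqs : IsQuasiSeparatedSp X.obj) (h : (X.obj ⨯ (yon _).obj (spec k K)).obj.IsRepresentable) :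
    ∃ (k' : Type u) (_ : Field k') (_ : Algebra k k'), Module.Finite k k' ∧
      (X.obj ⨯ (yon _).obj (spec k k')).obj.IsRepresentable := by
  have : IsFiltered (Idx k K) := isFiltered_of_directed_le_nonempty _
  have : IsConnected (Idx k K)ᵒᵖ := IsCofiltered.isConnected _
  obtain ⟨hl⟩ := isLimit_sysCone k K
  have : IsConnected (AsSmall.{u + 1} (Idx k K)ᵒᵖ) := isConnected_of_equivalent AsSmall.equiv
  have := prod_preservesConnectedLimits (J := AsSmall.{u + 1} (Idx k K)ᵒᵖ) X.obj
  have : PreservesLimitsOfShape (Idx k K)ᵒᵖ (prod.functor.obj X.obj) :=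
    preservesLimitsOfShape_of_equiv AsSmall.equiv.symm _
  let F := yon (Spec (CommRingCat.of k)) ⋙ prod.functor.obj X.obj
  let c : Cone (sys k K ⋙ F) := F.mapCone (sysCone k K)
  have hc : IsLimit c := isLimitOfPreserves F hl
  have hterm := isTerminalBase (S := Spec (CommRingCat.of k))
  have haff : ∀ i, IsAffineMor (hterm.from ((yon _).obj ((sys k K).obj i))) := fun i => by
    obtain ⟨f, hf⟩ := (yon _).map_surjective (hterm.from ((yon _).obj ((sys k K).obj i)))
    rw [← hf]
    refine isAffineMor_iff_repWith.2 ((repWith_yon_map_iff _ _).2 ?_)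
    have : IsAffine (Over.mk (𝟙 (Spec (CommRingCat.of k)))).left := inferInstanceAs (IsAffine (Spec _))
    have : IsAffine ((sys k K).obj i).left := inferInstanceAs (IsAffine (Spec _))
    exact (inferInstance : IsAffineHom f.left)
  have hD : ∀ i, IsAlgSpace ((sys k K ⋙ F).obj i) := fun i =>
    isAlgSpace_prod X.property (IsAlgSpace.yon_obj _)
  have hfst : ∀ i, IsAffineMor (Limits.prod.fst : (sys k K ⋙ F).obj i ⟶ X.obj) := fun i =>
    LimSys14.isAffineMor_of_isPullback
      ((IsPullback.of_is_product' (Limits.prodIsProd X.obj ((yon _).obj ((sys k K).obj i))) hterm).flip) (haff i)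
  have hDa : ∀ (i j : (Idx k K)ᵒᵖ) (φ : i ⟶ j), IsAffineMor ((sys k K ⋙ F).map φ) := fun i j φ => by
    refine LimSys14.isAffineMor_of_isPullback (isPullback_prod_map_right ((yon _).map ((sys k K).map φ)) X.obj) ?_
    refine isAffineMor_iff_repWith.2 ((repWith_yon_map_iff _ _).2 ?_)
    have : IsAffine ((sys k K).obj i).left := inferInstanceAs (IsAffine (Spec _))
    have : IsAffine ((sys k K).obj j).left := inferInstanceAs (IsAffine (Spec _))
    exact (inferInstance : IsAffineHom ((sys k K).map φ).left)
  obtain ⟨G, ⟨e⟩⟩ : ∃ G : Over _, Nonempty ((yon _).obj G ≅ c.pt) :=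
    ⟨_, ⟨isoOfRepresentableBy h.has_representation.choose_spec.some⟩⟩
  obtain ⟨i, hi⟩ := LimSys14.exists_isRepresentable c hD hDa
    (fun i => isQuasiCompactSp_of_mor (hD i) X.property
      (LimSys14.isQuasiCompactMor_of_isAffineMor (hD i) X.property (hfst i)) hqc)
    (fun i => isQuasiSeparatedSp_of_mor
      (LimSys14.isQuasiSeparatedMor_of_isAffineMor (hD i) X.property (hfst i)) hqs) hc e
  let A := i.unop.1
  have : Algebra.FiniteType k A := (Subalgebra.fg_iff_finiteType A).1 i.unop.2
  obtain ⟨m, hm⟩ := Ideal.exists_maximal A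
  let k' := A ⧸ m
  let : Field k' := Ideal.Quotient.field m
  have : Algebra.FiniteType k k' := Algebra.FiniteType.of_surjective (Ideal.Quotient.mkₐ k m)
    (Ideal.Quotient.mkₐ_surjective k m)
  exact ⟨k', inferInstance, inferInstance, finite_of_finite_type_of_isJacobsonRing k k',
    rep_of_rep (specHom (Ideal.Quotient.mkₐ k m)) hi⟩

variable {k}

/-- Representability is insensitive to purely inseparable extensions. -/
theorem rep_of_purelyInseparable (X : AlgSp.Space (Spec (CommRingCat.of k))) (L M : Type u) [Field L]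
    [Field M] [Algebra k L] [Algebra k M] [Algebra L M] [IsScalarTower k L M] [IsPurelyInseparable L M]
    (h : (X.obj ⨯ (yon _).obj (spec k M)).obj.IsRepresentable) :
    (X.obj ⨯ (yon _).obj (spec k L)).obj.IsRepresentable := by
  let v : spec k M ⟶ spec k L := specHom (IsScalarTower.toAlgHom k L M)
  have hv : v.left = Spec.map (CommRingCat.ofHom (algebraMap L M)) := rfl
  have : Flat v.left := by
    rw [hv, HasRingHomProperty.Spec_iff (P := @Flat)]
    exact (RingHom.flat_algebraMap_iff).2 inferInstance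
  have : Surjective v.left := Groth.Agent.RelCyc15.surjective_spec L M
  have : UniversallyInjective v.left := Groth.Agent.RelCyc15.universallyInjective_spec L M
  have : IsIntegralHom v.left := by
    rw [hv, IsIntegralHom.SpecMap_iff]
    exact algebraMap_isIntegral_iff.2 inferInstance
  obtain ⟨G, ⟨e⟩⟩ : ∃ G : Over _, Nonempty ((yon _).obj G ≅ X.obj ⨯ (yon _).obj (spec k M)) :=
    ⟨_, ⟨isoOfRepresentableBy h.has_representation.choose_spec.some⟩⟩
  obtain ⟨p, hp⟩ := (yon _).map_surjective (e.hom ≫ Limits.prod.snd)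
  have sq : IsPullback (e.hom ≫ prod.map (𝟙 X.obj) ((yon _).map v)) ((yon _).map p)
      (Limits.prod.snd : X.obj ⨯ (yon _).obj (spec k L) ⟶ _) ((yon _).map v) := by
    rw [hp]
    exact (isPullback_prod_map_right ((yon _).map v) X.obj).flip.of_iso e.symm (Iso.refl _) (Iso.refl _)
      (Iso.refl _) (by simp) (by simp) (by simp) (by simp)
  exact exists_iso_yon_of_radicial (isAlgSpace_prod X.property (IsAlgSpace.yon_obj _)) _ v _ p sq

/-- An open subspace of a scheme is a scheme. -/
theorem rep_of_isOpenImmersion {S : Scheme.{u}} {P Q : Sp S} {i : P ⟶ Q} (hi : RepWith @IsOpenImmersion i)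
    (h : Q.obj.IsRepresentable) : ∃ H : Over S, Nonempty ((yon S).obj H ≅ P) := by
  obtain ⟨G, ⟨e⟩⟩ : ∃ G : Over S, Nonempty ((yon S).obj G ≅ Q) :=
    ⟨_, ⟨isoOfRepresentableBy h.has_representation.choose_spec.some⟩⟩
  have sq := hi.1.isPullback e.hom
  have := sq.isIso_fst_of_isIso
  exact ⟨_, ⟨asIso (hi.1.fst e.hom)⟩⟩

/-- The base change to an algebraic closure is a scheme. -/
theorem rep_algClosure (X : AlgSp.Space (Spec (CommRingCat.of k)))
    (hqs : IsQuasiSeparatedSp X.obj) (K : Type u) [Field K] [Algebra k K]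
    (h : (X.obj ⨯ (yon _).obj (spec k K)).obj.IsRepresentable)
    (kbar : Type u) [Field kbar] [Algebra k kbar] [IsAlgClosure k kbar] :
    (X.obj ⨯ (yon _).obj (spec k kbar)).obj.IsRepresentable := by
  have : IsAlgClosed kbar := IsAlgClosure.isAlgClosed k
  let P := X.obj ⨯ (yon (Spec (CommRingCat.of k))).obj (spec k kbar)
  have cov : ∀ z : Points P, ∃ (H : Over (Spec (CommRingCat.of k))) (w : (yon _).obj H ⟶ P),
      RepWith @IsOpenImmersion w ∧ z ∈ Set.range (Points.map w) := by
    intro z
    obtain ⟨V, hV, hVc, hz, -⟩ := exists_compact_nhd X.property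
      (Points.map (Limits.prod.fst : P ⟶ X.obj) z) isOpen_univ (Set.mem_univ _)
    have hι := repWith_openSubι hV
    let XV : AlgSp.Space (Spec (CommRingCat.of k)) :=
      ⟨openSub V, isAlgSpace_of_representable hι.1 X.property⟩
    have hqcV : IsQuasiCompactSp XV.obj := by
      refine (isQuasiCompactSp_iff XV.property).2 ⟨?_⟩
      rw [(isEmbedding_map_of_immersion X.property (i := openSubι V)
        ⟨hι.1, fun {T T'} g p q sq => show IsImmersion q.left from
          have : IsOpenImmersion q.left := hι.2 g p q sq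
          inferInstance⟩).1.isCompact_iff, Set.image_univ, range_openSubι]
      exact hVc
    have hqsV : IsQuasiSeparatedSp XV.obj :=
      isQuasiSeparatedSp_of_mor (show RepWith @QuasiCompact (pullback.diagonal (openSubι V)) from
        repWith_mono (Q := @QuasiCompact) (fun _ _ g (hg : IsIso g) => inferInstance)
          (AlgSpDescent.repWith_isomorphisms_of_isIso (pullback.diagonal (openSubι V)))) hqs
    have hK : (XV.obj ⨯ (yon _).obj (spec k K)).obj.IsRepresentable := by
      obtain ⟨H, ⟨e⟩⟩ := rep_of_isOpenImmersion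
        (repWith_of_isPullback (isPullback_prod_map_left (openSubι V) _) hι) h
      exact isRepresentable_of_iso_yon e
    obtain ⟨k', hk', hkk', hfin, hrep⟩ := exists_finite_rep k XV hqcV hqsV hK
    have : Algebra.IsAlgebraic k k' := Algebra.IsAlgebraic.of_finite k k'
    obtain ⟨H, ⟨e⟩⟩ : ∃ H, Nonempty ((yon _).obj H ≅ XV.obj ⨯ (yon _).obj (spec k kbar)) :=
      ⟨_, ⟨isoOfRepresentableBy (rep_of_rep (specHom (IsAlgClosed.lift : k' →ₐ[k] kbar))
        hrep).has_representation.choose_spec.some⟩⟩
    have sq := isPullback_prod_map_left (openSubι V) ((yon _).obj (spec k kbar))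
    refine ⟨H, e.hom ≫ prod.map (openSubι V) (𝟙 _),
      (repWith_respectsIso_left e.hom).2 (repWith_of_isPullback sq hι), ?_⟩
    obtain ⟨x, hx⟩ : Points.map (Limits.prod.fst : P ⟶ X.obj) z ∈ Set.range (Points.map (openSubι V)) := by
      rw [range_openSubι]; exact hz
    obtain ⟨y, -, hy⟩ := exists_point_lift sq x z hx
    rw [map_comp_eq, (bijective_map_iso e.hom).2.range_comp]
    exact ⟨y, hy⟩
  choose H w hw hmem using cov
  obtain ⟨A, p, hpe, hps⟩ := (isAlgSpace_prod X.property (IsAlgSpace.yon_obj (spec k kbar))).atlas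
  obtain ⟨G, ⟨e⟩⟩ := exists_iso_yon_of_points_cover (κ := ↥A.left) (U := fun a => H (Points.ofPt p a))
    (w := fun a => w _) (fun a => hw _) fun x => by
      obtain ⟨a, rfl⟩ := surjective_ofPt hps x
      exact ⟨a, hmem _⟩
  exact isRepresentable_of_iso_yon e

end Field

end

end Groth.Agent.FieldSpread14
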